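import Mathlib
import Cfsg.Agent.W4.Data

/-! Computations in the configuration `A5 wr 2`. The vector `vv 4` is singular and not a point, `vv 172` is fixed
modulo `vv 4` by its stabiliser, and `sM` has commutator space `⟨vv 4, vv 172⟩`. -/

set_option autoImplicit false
set_option maxRecDepth 100000
set_option linter.unusedVariables false

namespace Cfsg.Agent.W4H

open Cfsg.Agent.W4

/-- Words in the generators. -/
abbrev wv (w : List ℕ) : ℕ := wm (gn L75) w

/-- The outer involution. -/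
def sM : ℕ := 0x84ec20100c040601

/-- Words fixing `vv 4`, with their matrices and the inverses. -/
def SP : List (List ℕ × ℕ × ℕ) := [([5], 0x907020101804069d, 0x907020101804069d),
  ([3], 0x945830100804020f, 0x945830100804020f), ([5, 3], 0x8478301018040687, 0x8478301018040687),
  ([0, 5], 0xb4582030380407b9, 0x9468203018049b9d), ([2, 0, 5, 2], 0x37e01a878104073b, 0x12693bb985041c1a),
  ([3, 2], 0x94553b820704020f, 0x12dcb3960904020e)]

/-- Words mapping `vv 4` to the singular vectors that are not points. -/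
def W60 : List (ℕ × List ℕ) := [
  (2, [4, 0, 3, 1]), (3, [0, 4, 0, 3, 1]), (4, []), (5, [1]), (6, [4, 2, 5, 1]), (7, [4, 2, 0, 4, 1]), (8, [5, 1, 3,
  2, 4, 1]), (9, [4, 2, 1, 5, 1]), (10, [0, 3, 1]), (11, [3, 1]), (12, [1, 4, 0, 4, 1]), (13, [4, 0, 4, 1]), (20,
  [4]), (24, [1, 3, 2, 4, 1]), (28, [1, 3, 0, 4, 1]), (30, [2, 5, 1]), (33, [5, 0, 5, 1]), (36, [3, 0, 4]), (40, [1,
  5, 0, 5, 1]), (44, [1, 3, 0, 4]), (52, [0, 4]), (56, [2, 4, 2, 4]), (60, [1, 5, 2, 4, 1]), (63, [2, 0, 5, 1]), (65,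
  [4, 1]), (66, [2, 4, 1]), (73, [0, 4, 1]), (75, [2, 0, 4, 1]), (87, [1, 4]), (90, [3, 2, 4, 1]), (93, [2, 1, 5, 1]),
  (95, [3, 0, 4, 1]), (115, [0, 3, 2, 4, 1]), (117, [5, 1, 5, 1]), (118, [5, 2, 4, 1]), (126, [1, 0, 4]), (129, [1, 5,
  3, 1]), (131, [5, 3, 1]), (133, [1, 3, 2, 4]), (134, [3, 2, 4]), (146, [2, 4]), (153, [5, 1]), (155, [3, 1, 5, 3,
  1]), (159, [0, 4, 2, 4]), (183, [2, 0, 4]), (186, [4, 2, 4]), (189, [0, 5, 1]), (190, [4, 3, 2, 4]), (210, [2, 1,
  4]), (217, [1, 5, 1]), (219, [3, 1, 5, 1]), (222, [3, 2, 1, 4]), (225, [0, 5, 4, 1]), (231, [1, 5, 4, 1]), (234, [2,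
  5, 4, 1]), (237, [5, 4, 1]), (243, [1, 4, 2, 4]), (245, [5, 0, 4, 1]), (246, [5, 2, 1, 4]), (255, [5, 1, 4])]

theorem w75 : ∀ p ∈ W75, mx (wv p.2) (vv 1) = vv p.1 := by decide +kernel

theorem w60 : ∀ p ∈ W60, mx (wv p.2) (vv 4) = vv p.1 := by decide +kernel

theorem sing : ∀ v, qb false v = false → v = 0 ∨ (∃ p ∈ W75, vv p.1 = v) ∨ ∃ p ∈ W60, vv p.1 = v := by decide +kernel

theorem sp : ∀ p ∈ SP, wv p.1 = p.2.1 ∧ mul p.2.1 p.2.2 = one ∧ mx p.2.1 (vv 4) = vv 4 := by decide +kernel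

/-- The centraliser of `sM`. -/
abbrev Sl (w : V) : Prop := fb w (vv 4) = false ∧ fb w (vv 172) = false

theorem span : ∀ w, Sl w → w ∈ els (vv 1) ((SP.take 5).map fun p => mx p.2.1 (vv 1)) := by decide +kernel

theorem irr : ∀ w, Sl w → w ∈ els (vv 4) [vv 172] ∨ ∃ p ∈ SP, fb w (mx p.2.1 w) = true := by decide +kernel

theorem s_fix : ∀ w, Sl w ↔ mx sM w = w := by decide +kernel

theorem s_sq : ∀ w, mx sM (mx sM w) = w := by decide +kernel

theorem s_comm : ∀ w, mx 0x94553b820704020f (mx sM w) = mx sM (mx 0x94553b820704020f w) := by decide +kernel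

theorem s_range : ∀ w, mx sM w = w → (∃ a, mx 0x94553b820704020f w = a + mx sM a + w) → ∃ b, w = b + mx sM b := by
  decide +kernel

theorem s_perp : ∀ d, qb false d = false → mx sM d = d → (∀ w, Sl w → fb d w = false ∨ fb d (w + vv 172) = false) →
    d = 0 ∨ d = vv 4 := by decide +kernel

/-- Powers. -/
def pw (m k : ℕ) : ℕ := Nat.rec one (fun _ ih => mul m ih) k

/-- The properties of the stabiliser of `vv 4`. -/
def P (m : ℕ) : Bool := decide (mx m (vv 172) = vv 172 ∨ mx m (vv 172) = vv 172 + vv 4) && (m == one || m == sM ||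
  decide (∃ w, Sl w ∧ mx m w ≠ w ∧ mx m w ≠ w + vv 4) && anyL (fun p => frc (mul (mul m p.2.1) (mul m p.2.2)) fun u =>
    frc (pw u 4) fun n => anyL (fun i => mx n (vv i) != vv i) [1, 2, 4, 8, 16, 32, 64, 128] && pw n 15 == one) SP)

theorem chk : allL (fun p => frc (tb (wv p.2)) fun t => allL (fun n => frc (mm t n) fun m =>
    !(mx m (vv 4) == vv 4) || P m) N75) W75 = true := by decide +kernel

theorem stab {p : ℕ × List ℕ} (hp : p ∈ W75) {n : ℕ} (hn : n ∈ N75) {m : ℕ} (e : m = mul (wv p.2) n)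
    (h : mx m (vv 4) = vv 4) : (mx m (vv 172) = vv 172 ∨ mx m (vv 172) = vv 172 + vv 4) ∧ (m = one ∨ m = sM ∨
      (∃ w, Sl w ∧ mx m w ≠ w ∧ mx m w ≠ w + vv 4) ∧ ∃ p ∈ SP, (∃ v, mx (pw (mul (mul m p.2.1) (mul m p.2.2)) 4) v ≠ v) ∧
        pw (pw (mul (mul m p.2.1) (mul m p.2.2)) 4) 15 = one) := by
  have k := chk
  simp only [allL_iff, frc_eq] at k
  replace k := k p hp n hn
  rw [mul, frc_eq, frc_eq] at e
  rw [← e, h] at k
  simp only [P, beq_self_eq_true, Bool.not_true, Bool.false_or, Bool.and_eq_true, Bool.or_eq_true, decide_eq_true_eq,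
    beq_iff_eq, bne_iff_ne, anyL_iff, frc_eq, or_assoc] at k
  exact ⟨k.1, k.2.imp_right (Or.imp_right fun k => ⟨k.1, let ⟨p, h1, ⟨_, _, h2⟩, h3⟩ := k.2; ⟨p, h1, ⟨_, h2⟩, h3⟩⟩)⟩

/-- The two reguli. -/
def La (c : Bool) : List ℕ := cond c
  [0xc0030000c003000000000000c00300000000000000000000c003,
    0x200080000010004020008000001000408000200000400010800020000040001,
    0x400000100802000000104002000008020000080000104000080200004000001,
    0x1004000200008000800200040000100010040002000080008002000400001,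
    0x1000100010001000001000100010001001000100010001000001000100010001]
  [0x1000100010001000100010001000100010001000100010001000100010001,
    0x300c00000c3000000000000003c000000000000000000000c003,
    0x400100000800002020080000010000401004000002000080800200000400001,
    0x200080010004000000800020040001020008000010004000080002000040001,
    0x1000004000208000001040002000008008000002000401000008020004000001]

/-- `T` preserves or exchanges the reguli. -/
def Ty (b : Bool) (T : V → V) : Prop := ∀ c, ∀ U ∈ La c, ∃ U' ∈ La (c ^^ b), ∀ v, bt U v.n = true → bt U' (T v).n = true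

/-- The test for `Ty`. -/
def tyB (b : Bool) (m : ℕ) : Bool := frc (tb m) fun t => allL (fun c => allL (fun U => anyL (fun U' =>
  allN (fun v => !bt U v || bt U' (ap t v)) 256) (La (c ^^ b))) (La c)) [false, true]

theorem ty_of {b : Bool} {m : ℕ} (h : tyB b m = true) : Ty b (mx m) := fun c U hU => by
  simp only [tyB, frc_eq, allL_iff, anyL_iff, allN_iff] at h
  obtain ⟨U', h1, h2⟩ := h c (by cases c <;> simp) U hU
  exact ⟨U', h1, fun v hv => by simpa [hv, ap_tb] using h2 _ v.lt⟩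

theorem Ty.comp {b b' : Bool} {S T : V → V} (h : Ty b S) (k : Ty b' T) : Ty (b ^^ b') (S ∘ T) := fun c U hU =>
  let ⟨U1, h1, h2⟩ := k c U hU; let ⟨U2, h3, h4⟩ := h _ U1 h1
  ⟨U2, by rwa [Bool.xor_comm b, ← Bool.xor_assoc], fun v hv => h4 _ (h2 v hv)⟩

theorem inter : ∀ U ∈ La false, ∀ U' ∈ La true, ∀ p : V, bt U p.n = true → bt U' p.n = true → ∀ q : V, bt U q.n = true →
    bt U' q.n = true → ∀ r : V, bt U r.n = true → bt U' r.n = true →
      p = 0 ∨ q = 0 ∨ r = 0 ∨ p = q ∨ p = r ∨ q = r ∨ p + q + r = 0 := by decide +kernel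

theorem Ty.unique {b b' : Bool} {T : V → V} (i : Iso false T) (h : Ty b T) (k : Ty b' T) : b = b' := by
  have e : ¬ (Ty false T ∧ Ty true T) := fun ⟨h, k⟩ => by
    obtain ⟨U, h1, h2⟩ := h false _ List.mem_cons_self
    obtain ⟨U', h3, h4⟩ := k false _ List.mem_cons_self
    have := inter U h1 U' h3 _ (h2 (vv 16) (by decide +kernel)) (h4 _ (by decide +kernel)) _
      (h2 (vv 32) (by decide +kernel)) (h4 _ (by decide +kernel)) _ (h2 (vv 64) (by decide +kernel)) (h4 _ (by decide +kernel))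
    simp only [← i.add, i.eq_zero, i.inj.eq_iff] at this
    revert this
    decide +kernel
  cases b <;> cases b' <;> simp_all

theorem ty_s : Ty true (mx sM) := ty_of (by decide +kernel)

theorem ty_n : ∀ n ∈ N75, ∃ b, tyB b n = true := by decide +kernel

theorem ty_w (w : List ℕ) : ∃ b, Ty b (mx (wv w)) := by
  have h0 : ∀ i < 6, ∃ b, tyB b (gn L75 i) = true := by decide +kernel
  have h1 : Ty false (mx one) := ty_of (by decide +kernel)
  induction w with
  | nil => exact ⟨_, h1⟩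
  | cons i w ih =>
    obtain ⟨b, h2⟩ : ∃ b, Ty b (mx (gn L75 i)) := (lt_or_ge i 6).elim (fun k => (h0 i k).imp fun _ => ty_of)
      fun k => ⟨_, by rwa [gn, List.getD_eq_default _ _ k]⟩
    exact let ⟨b', h3⟩ := ih; ⟨_, (funext (mx_mul _ _) : mx (wv (i :: w)) = _ ∘ mx (wv w)) ▸ h2.comp h3⟩

end Cfsg.Agent.W4H
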