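import Mathlib
import Cfsg.Agent.W4.Defs2
import Cfsg.Agent.W4H.D

/-! The configuration `A5 wr 2`: the stabiliser of an involution of `Q` that is not a point. -/

set_option autoImplicit false
set_option maxRecDepth 100000
set_option linter.unusedSectionVars false
set_option linter.unusedVariables false

namespace Cfsg.Agent.W4H

open Cfsg.Agent.Spor Cfsg.Agent.Spor.TT Cfsg.Agent.LX Cfsg.Agent.Gr6 Cfsg.Agent.W3 Cfsg.Agent.W4 Subgroup

variable {G : Type*} [Group G] [Finite G] {z g r t x y : G} {τ : Bool} {π : G → V} {T : V → V} {m : ℕ}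

theorem lift (k : Co z τ π) (c : Ac z π r T) (hx : x ∈ QQ z) (hy : y ∈ QQ z) (h0 : π y ≠ 0) (e : T (π x) = π y) :
    ∃ r', Ac z π r' T ∧ cj r' x = y := by
  rcases (k.eq_iff (k.cj_mem c hx) hy).1 ((c.2 x hx).trans e) with e | e
  · exact ⟨r, c, e⟩
  obtain ⟨u, hu⟩ := exists_fb _ h0
  obtain ⟨q, hq, rfl⟩ := k.surj u
  exact ⟨q * r, (k.ac_mul (k.ac_mem hq) c :), by
    rw [← cj_cj, e, cj_mul, k.cj_of_fb hq hy hu, cj_of_commute (k.bg.comm hq).symm, ← mul_assoc, k.zz, one_mul]⟩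

theorem ac_mm (k : Co z τ π) {n : ℕ} (c : Ac z π g (mx m)) (c' : Ac z π r (mx n)) : Ac z π (g * r) (mx (mul m n)) :=
  (k.ac_mul c c').congr fun v => (mx_mul m n v).symm

theorem ac_pw (k : Co z τ π) (c : Ac z π g (mx m)) (n : ℕ) : Ac z π (g ^ n) (mx (pw m n)) := by
  induction n with
  | zero => exact pow_zero g ▸ (k.ac_mem (one_mem _)).congr fun v => (mx_one v).symm
  | succ n ih => exact pow_succ' g n ▸ ac_mm k c ih

theorem mem_of_coprime {H : Subgroup G} {a b : ℕ} (h : a.Coprime b) (h1 : g ^ a ∈ H) (h2 : g ^ b ∈ H) : g ∈ H := by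
  have := mul_mem (zpow_mem h1 (a.gcdA b)) (zpow_mem h2 (a.gcdB b))
  rwa [← zpow_natCast, ← zpow_natCast, ← zpow_mul, ← zpow_mul, ← zpow_add, ← Nat.gcd_eq_gcd_ab, h, Nat.cast_one,
    zpow_one] at this

theorem exists_phi (k : Co z false π) (hb : Bd z π L75 W75 N75) : ∃ φ : centralizer ({z} : Set G) →* Multiplicative (ZMod 2),
    ∀ (g : centralizer ({z} : Set G)) T b, Ac z π g T → Ty b T → φ g = Multiplicative.ofAdd (b2 b) := by
  have h1 : ∀ g : centralizer ({z} : Set G), ∃ b, ∀ T, Ac z π g T → Ty b T := fun g => by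
    obtain ⟨T, c⟩ := k.exists_ac (Spor.mem_centralizer_singleton.1 g.2)
    obtain ⟨p, -, n, hn, rfl⟩ := hb g T c
    obtain ⟨b, h2⟩ := ty_w p.2
    obtain ⟨b', h3⟩ := ty_n n hn
    exact ⟨_, fun T c' => (funext fun v => (mx_mul _ _ v).symm.trans (k.ac_ext c c' v) : _ ∘ mx n = T) ▸ h2.comp (ty_of h3)⟩
  choose b hb using h1
  refine ⟨MonoidHom.mk' (fun g => Multiplicative.ofAdd (b2 (b g))) fun g g' => ?_,
    fun g T _ c e => congrArg (fun b => Multiplicative.ofAdd (b2 b)) ((hb g T c).unique (k.iso c) e)⟩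
  obtain ⟨T, c⟩ := k.exists_ac (Spor.mem_centralizer_singleton.1 g.2)
  obtain ⟨T', c'⟩ := k.exists_ac (Spor.mem_centralizer_singleton.1 g'.2)
  rw [(hb (g * g') _ (k.ac_mul c c')).unique (k.iso (k.ac_mul c c')) ((hb g T c).comp (hb g' T' c')), b2_xor, ofAdd_add]

variable (h : Lf z π O75 L75) (hb : Bd z π L75 W75 N75)
include h

theorem not_pt (e : π t = vv 4) : ¬ Pt z t := fun p => absurd (e ▸ h.pts t p) (by decide +kernel)

theorem exists_ct (ht : t ∈ QQ z) (e : π t = vv 4) {p : List ℕ × ℕ × ℕ} (hp : p ∈ SP) :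
    ∃ r, Ac z π r (mx p.2.1) ∧ Commute t r := by
  obtain ⟨r, c⟩ := h.rl p.1
  obtain ⟨h1, -, h2⟩ := sp p hp
  obtain ⟨r, c, k⟩ := lift h.co (show Ac z π r (mx p.2.1) from h1 ▸ c) ht ht (e ▸ by decide) (e ▸ h2)
  exact ⟨r, c, (cj_eq_self_iff.1 k).symm⟩

/-- The first base point is conjugate to `z` in the centraliser of `t`. -/
theorem exists_t0 (ht : t ∈ QQ z) (e : π t = vv 4) : ∃ g, Commute t g ∧ Pt z (cj g z) ∧ π (cj g z) = vv 1 := by
  have k := h.co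
  obtain ⟨t0, p⟩ := h.base _ List.mem_cons_self
  have h1 := k.mem_of_et p.pt ht ((p.et _).2 (by rw [e]; decide +kernel))
  obtain ⟨g, rfl⟩ := exists_cj p.pt.conj
  have h0 : π t ≠ 0 := e ▸ by decide
  have h2 := mem_QQ_cj.1 h1
  have h3 : ¬ IsConj z (cj g⁻¹ t) := fun c => not_pt h e ⟨c.trans (LX.isConj_cj g⁻¹ t).symm, ht, fun c => h0 (c ▸ k.self)⟩
  have h4 : π (cj g⁻¹ t) ≠ 0 := fun c => ((k.ker _ h2).1 c).elim (fun c => h0 (by
    rw [cj_eq_iff, cj_one_right] at c; rw [c, k.one])) fun c => h3 (c ▸ IsConj.refl _)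
  rcases sing _ ((k.sq _ h2).1 (by rw [← cj_mul, (k.sq t ht).2 (by rw [e]; decide +kernel), cj_one_right])) with
    c | ⟨q, h5, c⟩ | ⟨q, h5, c⟩
  · exact absurd c h4
  · obtain ⟨r, cr⟩ := h.rl q.2
    exact absurd (k.pt_of_eq (p.pt.cj k.bg cr.1) h2 (by rw [cr.2 _ p.pt.mem, p.eq, ← c]; exact (w75 q h5).symm)).conj h3
  · obtain ⟨r, cr⟩ := h.rl q.2
    obtain ⟨r, cr, h6⟩ := lift k cr ht h2 h4 (by rw [e, ← c]; exact w60 q h5)
    have h7 : cj (g * r) z = cj g z := by rw [← cj_cj, cj_of_commute cr.1.symm]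
    exact ⟨g * r, (cj_eq_self_iff.1 (by rw [← cj_cj, h6, cj_cj_inv])).symm, h7 ▸ p.pt, h7 ▸ p.eq⟩

include hb

theorem no_s [IsSimpleGroup G] (c : Ac z π g (mx sM)) : False := by
  have k := h.co
  obtain ⟨r, cr⟩ := h.rl [3, 2]
  replace cr : Ac z π r (mx 0x94553b820704020f) := (by decide +kernel : wv [3, 2] = 0x94553b820704020f) ▸ cr
  have g2 : g * g ∈ QQ z := k.mem_of_ac (k.ac_mul c c) s_sq
  have hq := k.mul_inv_mem (k.ac_cj cr c s_comm) c fun _ => rfl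
  obtain ⟨b, e⟩ := s_range _ (k.fix_of_comm c g2 ((Commute.refl g).mul_right (Commute.refl g))) ⟨π (cj r g * g⁻¹), by
    rw [← cr.2 _ g2, ← c.2 _ hq, ← k.mul _ hq _ (k.cj_mem c hq), ← k.mul _ (mul_mem hq (k.cj_mem c hq)) _ g2]
    simp [cj, mul_assoc]⟩
  obtain ⟨u, cu, hu⟩ := k.exists_sq c g2 e
  obtain ⟨u, cu, hu⟩ : ∃ u, Ac z π u (mx sM) ∧ u * u = 1 := hu.elim (fun e => ⟨u, cu, e⟩) fun e => by
    obtain ⟨x, hx, ex⟩ := k.surj (vv 17)
    obtain ⟨y, hy, ey⟩ := k.surj (vv 43)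
    have : ∀ x ∈ QQ z, qb false (π x) = true → Commute u x → ∃ u, Ac z π u (mx sM) ∧ u * u = 1 := fun x hx h1 h2 =>
      ⟨x * u, (k.ac_mul (k.ac_mem hx) cu :), by rw [h2.mul_mul_mul_comm, (k.sq' hx).2 h1, e, k.zz]⟩
    rcases k.cj_mul_of_ne cu hx hy (by rw [ex]; decide +kernel) (by rw [ey]; decide +kernel) with e | e | e
    · exact this x hx (by rw [ex]; decide +kernel) e
    · exact this y hy (by rw [ey]; decide +kernel) e
    · exact this _ (mul_mem hx hy) (by rw [k.mul x hx y hy, ex, ey]; decide +kernel) e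
  obtain ⟨φ, hφ⟩ := exists_phi k hb
  obtain ⟨y, hy, ey⟩ := k.surj (vv 172)
  obtain ⟨t, ht, et⟩ := k.surj (vv 4)
  obtain ⟨v4, e4⟩ : ∃ v, vv 4 = v + mx sM v := by decide +kernel
  obtain ⟨v0, e0⟩ : ∃ v, vv 172 = v + mx sM v := by decide +kernel
  have k1 : cj u y = z * y := by
    rw [k.cj_of_range cu (.inl hu) hy (ey.trans e0), ← (k.sq' hy).2 (by rw [ey]; decide +kernel), inv_eq_iff_mul_eq_one,
      ← mul_assoc, ← mul_assoc, mul_assoc _ y, (k.sq' hy).2 (by rw [ey]; decide +kernel), k.zz]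
  have k2 : Commute u t := cj_eq_self_iff.1 (by
    rw [k.cj_of_range cu (.inl hu) ht (et.trans e4), inv_eq_iff_mul_eq_one, k.sq t ht, et]; decide +kernel)
  have key : ∀ w, Sl w → ∃ x ∈ QQ z, Commute u x ∧ (π x = w ∨ π x = w + vv 172) := fun w hw => by
    obtain ⟨x, hx, rfl⟩ := k.surj w
    rcases (k.fix_iff cu hx).1 ((s_fix _).1 hw) with e | e
    · exact ⟨x, hx, cj_eq_self_iff.1 e, .inl rfl⟩
    · exact ⟨x * y, mul_mem hx hy, cj_eq_self_iff.1 (by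
        rw [cj_mul, e, k1, mul_assoc, ← mul_assoc x, ← (k.bg.comm hx).eq, mul_assoc, ← mul_assoc z, k.zz, one_mul]),
        .inr (by rw [k.mul x hx y hy, ey])⟩
  refine k.tt (A := Multiplicative (ZMod 2)) (by decide) φ cu (by rw [hφ _ _ _ cu ty_s]; decide) (.inl hu)
    (fun g S c h1 h2 => ?_) fun d hd h1 h2 h3 => ?_
  · obtain ⟨p, hp, n, hn, rfl⟩ := hb g S c
    obtain ⟨h3, e | e | ⟨⟨w, hw, h4, h5⟩, -⟩⟩ := stab hp hn rfl (et ▸ h2 t ht k2)
    · exact .inl fun v => by rw [e, mx_one]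
    · exact .inr fun v => by rw [e]
    obtain ⟨x, hx, h6, e | e⟩ := key w hw <;> have h7 := e ▸ h2 x hx h6
    · exact absurd h7 h4
    rw [mx_add, add_eq_iff] at h7
    rcases h3 with e | e <;> rw [e] at h7
    · exact absurd (h7.trans (add_add_self' _ _)) h4
    · exact absurd (h7.trans (by rw [← add_assoc, add_add_self'])) h5
  · refine (s_perp _ ((k.sq d hd).1 h1) h2 fun w hw => ?_).imp_right fun e => ⟨not_pt h e, ⟨v4, e.trans e4⟩, v0, ?_⟩
    · obtain ⟨x, hx, h4, e⟩ := key w hw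
      exact e.imp (fun e => by rw [← e, h3 x hx h4]) fun e => by rw [← e, h3 x hx h4]
    · rw [← e0, e]; decide +kernel

variable [IsSimpleGroup G] (ht : t ∈ QQ z) (et : π t = vv 4)
include ht et

omit [IsSimpleGroup G] in
theorem fix_y (c : Ac z π g T) (k : Commute t g) : T (vv 172) = vv 172 ∨ T (vv 172) = vv 172 + vv 4 := by
  obtain ⟨p, hp, n, hn, rfl⟩ := hb g T c
  exact (stab hp hn rfl (et ▸ h.co.fix_of_comm c ht k.symm)).1

theorem mem_of_triv (c : Ac z π g T) (k : Commute t g) (e : ∀ w, Sl w → T w = w ∨ T w = w + vv 4) : g ∈ QQ z := by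
  obtain ⟨p, hp, n, hn, rfl⟩ := hb g T c
  obtain ⟨-, l | l | ⟨⟨w, hw, h4, h5⟩, -⟩⟩ := stab hp hn rfl (et ▸ h.co.fix_of_comm c ht k.symm)
  · exact h.co.mem_of_ac c fun v => by rw [l, mx_one]
  · exact (no_s h hb (l ▸ c)).elim
  · exact ((e w hw).elim h4 h5).elim

theorem mem_of_two (hz : Commute z g) (k : Commute t g)
    (e : ∀ r, Commute z r → Commute t r → ∃ n, (g * cj r g) ^ 2 ^ n ∈ QQ z) : g ∈ QQ z := by
  obtain ⟨T, c⟩ := h.co.exists_ac hz
  obtain ⟨p, hp, n, hn, rfl⟩ := hb g T c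
  obtain ⟨-, l | l | ⟨-, q, hq, ⟨v, h1⟩, h2⟩⟩ := stab hp hn rfl (et ▸ h.co.fix_of_comm c ht k.symm)
  · exact h.co.mem_of_ac c fun v => by rw [l, mx_one]
  · exact (no_s h hb (l ▸ c)).elim
  obtain ⟨r, cr, h3⟩ := exists_ct h ht et hq
  obtain ⟨n, h4⟩ := e r cr.1 h3
  have h5 := ac_pw h.co (ac_mm h.co (ac_mm h.co c cr) (ac_mm h.co c (h.co.ac_inv cr fun v => by
    rw [← mx_mul, (sp q hq).2.1, mx_one]))) 4
  refine absurd (h.co.ac_ext h5 (h.co.ac_mem (mem_of_coprime (a := 15) (b := 2 ^ n) (Nat.Coprime.pow_right n (by decide))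
    (h.co.mem_of_ac (ac_pw h.co h5 15) fun v => by rw [h2, mx_one]) ?_)) v) h1
  rw [pow_right_comm]
  exact pow_mem (by simpa only [cj, mul_assoc] using h4) 4

end Cfsg.Agent.W4H
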